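import Mathlib

/-!
The twisted real group algebra of a symplectic space over the field with two elements, realised by
matrices, and the extension of an orthogonal group by an extraspecial group inside its unit group.
-/

set_option autoImplicit false

namespace Cfsg.Agent.Lib.RealClifford

open Matrix

/-- The sign character. -/
def sgn (a : ZMod 2) : ℝ := if a = 0 then 1 else -1

theorem sgn_zero : sgn 0 = 1 := if_pos rfl

theorem sgn_one : sgn 1 = -1 := if_neg (by decide)

theorem zmod_cases (a : ZMod 2) : a = 0 ∨ a = 1 := by revert a; decide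

theorem sgn_add (a b : ZMod 2) : sgn (a + b) = sgn a * sgn b := by
  rcases zmod_cases a with rfl | rfl <;> rcases zmod_cases b with rfl | rfl <;>
    simp [sgn_zero, sgn_one, show (1 : ZMod 2) + 1 = 0 by decide]

theorem sgn_ne_zero (a : ZMod 2) : sgn a ≠ 0 := by
  rcases zmod_cases a with rfl | rfl <;> simp [sgn_zero, sgn_one]

theorem sgn_mul_self (a : ZMod 2) : sgn a * sgn a = 1 := by
  rcases zmod_cases a with rfl | rfl <;> simp [sgn_zero, sgn_one]

theorem sgn_injective : Function.Injective sgn := by
  intro a b h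
  rcases zmod_cases a with rfl | rfl <;> rcases zmod_cases b with rfl | rfl <;>
    first | rfl | norm_num [sgn_zero, sgn_one] at h

theorem add_self_zero {V : Type*} [AddCommGroup V] [Module (ZMod 2) V] (v : V) : v + v = 0 := by
  rw [← two_smul (ZMod 2) v, show (2 : ZMod 2) = 0 by decide, zero_smul]

theorem add_eq_iff {V : Type*} [AddCommGroup V] [Module (ZMod 2) V] (u v w : V) :
    u = v + w ↔ w = v + u := by
  constructor
  · rintro rfl
    rw [← add_assoc, add_self_zero, zero_add]
  · rintro rfl
    rw [← add_assoc, add_self_zero, zero_add]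

variable {V : Type*} [AddCommGroup V] [Module (ZMod 2) V] [Fintype V] [DecidableEq V]
  (β : V →ₗ[ZMod 2] V →ₗ[ZMod 2] ZMod 2)

/-- The twisted regular representation. -/
def L (u : V) : Matrix V V ℝ := Matrix.of fun x y => if x = u + y then sgn (β u y) else 0

theorem L_apply (u x y : V) : L β u x y = if x = u + y then sgn (β u y) else 0 := rfl

theorem L_zero : L β (0 : V) = 1 := by
  ext x y
  rw [L_apply, Matrix.one_apply, zero_add, map_zero, LinearMap.zero_apply, sgn_zero]

theorem L_mul_L (u v : V) : L β u * L β v = sgn (β u v) • L β (u + v) := by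
  ext x y
  rw [Matrix.mul_apply, Matrix.smul_apply, L_apply, smul_eq_mul, Finset.sum_eq_single (v + y)]
  · rw [L_apply, L_apply, if_pos rfl, ← add_assoc]
    by_cases h : x = u + v + y
    · rw [if_pos h, if_pos h, ← sgn_add, ← sgn_add, map_add, map_add, LinearMap.add_apply]
      congr 1
      ring
    · rw [if_neg h, if_neg h, mul_zero, zero_mul]
  · intro z _ hz
    rw [L_apply, L_apply, if_neg hz, mul_zero]
  · exact fun h => absurd (Finset.mem_univ _) h

theorem L_transpose (u : V) : (L β u)ᵀ = sgn (β u u) • L β u := by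
  ext x y
  rw [transpose_apply, Matrix.smul_apply, L_apply, L_apply, smul_eq_mul]
  by_cases h : y = u + x
  · rw [if_pos h, if_pos ((add_eq_iff y u x).mp h), h, ← sgn_add, map_add, ← add_assoc,
      add_self_zero, zero_add]
  · rw [if_neg h, if_neg (fun h' => h ((add_eq_iff x u y).mp h')), mul_zero]

theorem L_sq (u : V) : L β u * L β u = sgn (β u u) • 1 := by
  rw [L_mul_L, add_self_zero, L_zero]

theorem L_apply_zero (u x : V) : L β u x 0 = if x = u then 1 else 0 := by
  rw [L_apply, add_zero, map_zero, sgn_zero]

theorem L_orth (u : V) : (L β u)ᵀ * L β u = 1 := by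
  rw [L_transpose, Matrix.smul_mul, L_sq, smul_smul, sgn_mul_self, one_smul]

theorem L_smul_injective {a b : ℝ} {u v : V} (ha : a ≠ 0) (h : a • L β u = b • L β v) :
    u = v ∧ a = b := by
  have h1 := congrArg (fun M => M u 0) h
  simp only [Matrix.smul_apply, smul_eq_mul, L_apply_zero, if_pos rfl, mul_one] at h1
  by_cases huv : u = v
  · subst huv
    simp only [if_true, mul_one] at h1
    exact ⟨rfl, h1⟩
  · simp only [if_true, if_neg huv, mul_one, mul_zero] at h1
    exact absurd h1 ha

/-- The algebra spanned by the twisted regular representation. -/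
def alg : Submodule ℝ (Matrix V V ℝ) := Submodule.span ℝ (Set.range (L β))

theorem L_mem (u : V) : L β u ∈ alg β := Submodule.subset_span ⟨u, rfl⟩

theorem one_mem_alg : (1 : Matrix V V ℝ) ∈ alg β := L_zero β ▸ L_mem β 0

theorem mul_mem_alg {a b : Matrix V V ℝ} (ha : a ∈ alg β) (hb : b ∈ alg β) : a * b ∈ alg β := by
  induction ha using Submodule.span_induction with
  | mem x hx =>
    induction hb using Submodule.span_induction with
    | mem y hy =>
      obtain ⟨u, rfl⟩ := hx
      obtain ⟨v, rfl⟩ := hy
      rw [L_mul_L]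
      exact Submodule.smul_mem _ _ (L_mem β _)
    | zero => rw [mul_zero]; exact zero_mem _
    | add y z _ _ hy hz => rw [mul_add]; exact add_mem hy hz
    | smul c y _ hy => rw [Matrix.mul_smul]; exact Submodule.smul_mem _ _ hy
  | zero => rw [zero_mul]; exact zero_mem _
  | add y z _ _ hy hz => rw [add_mul]; exact add_mem hy hz
  | smul c y _ hy => rw [Matrix.smul_mul]; exact Submodule.smul_mem _ _ hy

theorem transpose_mem_alg {a : Matrix V V ℝ} (ha : a ∈ alg β) : aᵀ ∈ alg β := by
  induction ha using Submodule.span_induction with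
  | mem x hx =>
    obtain ⟨u, rfl⟩ := hx
    rw [L_transpose]
    exact Submodule.smul_mem _ _ (L_mem β _)
  | zero => rw [transpose_zero]; exact zero_mem _
  | add y z _ _ hy hz => rw [transpose_add]; exact add_mem hy hz
  | smul c y _ hy => rw [transpose_smul]; exact Submodule.smul_mem _ _ hy

theorem alg_apply {a : Matrix V V ℝ} (ha : a ∈ alg β) (x y : V) :
    a x y = sgn (β (x + y) y) * a (x + y) 0 := by
  induction ha using Submodule.span_induction with
  | mem m hm =>
    obtain ⟨u, rfl⟩ := hm
    rw [L_apply, L_apply_zero]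
    by_cases h : x + y = u
    · have h' : x = u + y := by rw [← h, add_assoc, add_self_zero, add_zero]
      rw [if_pos h, if_pos h', h, mul_one]
    · have h' : x ≠ u + y := fun h' => h (by rw [h', add_assoc, add_self_zero, add_zero])
      rw [if_neg h, if_neg h', mul_zero]
  | zero => simp
  | add s t _ _ hs ht => rw [Matrix.add_apply, Matrix.add_apply, hs, ht, mul_add]
  | smul c s _ hs => rw [Matrix.smul_apply, Matrix.smul_apply, hs, smul_eq_mul, smul_eq_mul]; ring

theorem alg_central (hnd : ∀ u, (∀ v, β u v + β v u = 0) → u = 0) {a : Matrix V V ℝ}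
    (ha : a ∈ alg β) (hc : ∀ v, L β v * a = a * L β v) : a = a 0 0 • 1 := by
  have hzero : ∀ u, u ≠ 0 → a u 0 = 0 := by
    intro u hu
    by_contra hne
    refine hu (hnd u fun v => ?_)
    have h := congrArg (fun M => M (u + v) 0) (hc v)
    simp only [Matrix.mul_apply] at h
    rw [Finset.sum_eq_single u, Finset.sum_eq_single v] at h
    · rw [L_apply, L_apply_zero, if_pos rfl, if_pos (add_comm u v), mul_one, alg_apply β ha (u + v) v,
        add_assoc, add_self_zero, add_zero] at h
      have h' : β v u = β u v := sgn_injective (mul_right_cancel₀ hne h)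
      rw [h', add_self_zero]
    · intro z _ hz
      rw [L_apply_zero, if_neg hz, mul_zero]
    · exact fun h => absurd (Finset.mem_univ _) h
    · intro z _ hz
      rw [L_apply, if_neg, zero_mul]
      intro h'
      refine hz ?_
      calc z = v + (v + z) := by rw [← add_assoc, add_self_zero, zero_add]
        _ = v + (u + v) := by rw [h']
        _ = u := by rw [add_comm u, ← add_assoc, add_self_zero, zero_add]
    · exact fun h => absurd (Finset.mem_univ _) h
  ext x y
  rw [alg_apply β ha, Matrix.smul_apply, Matrix.one_apply, smul_eq_mul]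
  by_cases h : x = y
  · subst h
    rw [if_pos rfl, add_self_zero, map_zero, LinearMap.zero_apply, sgn_zero, one_mul, mul_one]
  · rw [if_neg h, mul_zero, hzero, mul_zero]
    intro h'
    exact h (by rw [← add_zero x, ← h', ← add_assoc, add_self_zero, zero_add])

theorem sum_sgn_eq_zero (f : V →ₗ[ZMod 2] ZMod 2) (hf : f ≠ 0) : ∑ w, sgn (f w) = 0 := by
  obtain ⟨w₀, hw₀⟩ : ∃ w, f w ≠ 0 := by
    by_contra! h
    exact hf (LinearMap.ext h)
  have h1 : f w₀ = 1 := (zmod_cases _).resolve_left hw₀
  have : ∑ w, sgn (f w) = ∑ w, sgn (f (w + w₀)) :=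
    (Fintype.sum_equiv (Equiv.addRight w₀) _ _ fun w => rfl).symm
  simp only [map_add, sgn_add, h1, sgn_one, mul_neg, mul_one, Finset.sum_neg_distrib] at this
  linarith

theorem exists_twist {m : ℕ} (g : (Fin m → ZMod 2) →ₗ[ZMod 2] Fin m → ZMod 2)
    (β : (Fin m → ZMod 2) →ₗ[ZMod 2] (Fin m → ZMod 2) →ₗ[ZMod 2] ZMod 2)
    (hg : ∀ u, β (g u) (g u) = β u u) :
    ∃ f : (Fin m → ZMod 2) → ZMod 2, f 0 = 0 ∧
      ∀ u v, f (u + v) = f u + f v + (β (g u) (g v) + β u v) := by
  classical
  set D := β.compl₁₂ g g + β with hD
  let bm := Pi.basisFun (ZMod 2) (Fin m)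
  let γ : (Fin m → ZMod 2) →ₗ[ZMod 2] (Fin m → ZMod 2) →ₗ[ZMod 2] ZMod 2 :=
    bm.constr (ZMod 2) fun i => bm.constr (ZMod 2) fun j => if i < j then D (bm i) (bm j) else 0
  have halt : ∀ u, D u u = 0 := fun u => by
    rw [hD]
    simp only [LinearMap.add_apply, LinearMap.compl₁₂_apply, hg]
    exact add_self_zero _
  have hsymm : ∀ u v, D u v = D v u := by
    intro u v
    have := halt (u + v)
    simp only [map_add, LinearMap.add_apply, halt, add_zero, zero_add] at this
    calc D u v = D u v + (D v u + D u v) := by rw [this, add_zero]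
      _ = D v u := by rw [add_comm (D v u), ← add_assoc, add_self_zero, zero_add]
  have key : γ + γ.flip = D := by
    refine bm.ext fun i => bm.ext fun j => ?_
    rw [LinearMap.add_apply, LinearMap.add_apply, LinearMap.flip_apply]
    simp only [γ, Module.Basis.constr_basis]
    rcases lt_trichotomy i j with h | h | h
    · rw [if_pos h, if_neg h.asymm, add_zero]
    · subst h
      rw [if_neg (lt_irrefl _), add_zero, halt]
    · rw [if_neg h.asymm, if_pos h, zero_add, hsymm]
  refine ⟨fun u => γ u u, by simp, fun u v => ?_⟩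
  have := LinearMap.congr_fun (LinearMap.congr_fun key u) v
  rw [hD] at this
  simp only [LinearMap.add_apply, LinearMap.flip_apply, LinearMap.compl₁₂_apply] at this
  simp only [map_add, LinearMap.add_apply, ← this]
  ring

/-- Intertwiner: a symmetry of the form is induced by an orthogonal element of the algebra. -/
theorem exists_intertwiner (hnd : ∀ u, (∀ v, β u v + β v u = 0) → u = 0) (g : V ≃ₗ[ZMod 2] V)
    (hg : ∀ u, β (g u) (g u) = β u u) (f : V → ZMod 2) (hf0 : f 0 = 0)
    (hf : ∀ u v, f (u + v) = f u + f v + (β (g u) (g v) + β u v)) :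
    ∃ T ∈ alg β, Tᵀ * T = 1 ∧ ∀ u, T * L β u = sgn (f u) • (L β (g u) * T) := by
  set M : V → Matrix V V ℝ := fun u => sgn (f u) • L β (g u) with hM
  set T : V → Matrix V V ℝ := fun w => ∑ u, sgn (β u u) • (M u * L β w * L β u) with hT
  have hMmul : ∀ u v, M v * M u = sgn (β v u) • M (v + u) := by
    intro u v
    simp only [hM, Matrix.smul_mul, Matrix.mul_smul, L_mul_L, smul_smul, map_add, ← sgn_add]
    congr 2
    rw [hf]
    linear_combination -(add_self_zero (β v u))
  have hTint : ∀ w v, M v * T w = T w * L β v := by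
    intro w v
    simp only [hT, Finset.mul_sum, Finset.sum_mul]
    rw [← Equiv.sum_comp (Equiv.addRight v)]
    refine Finset.sum_congr rfl fun u _ => ?_
    simp only [Equiv.coe_addRight, Matrix.smul_mul, Matrix.mul_smul, ← Matrix.mul_assoc, hMmul,
      smul_smul]
    rw [Matrix.mul_assoc (M u * L β w), L_mul_L, Matrix.mul_smul, smul_smul,
      show v + (u + v) = u by rw [add_left_comm, add_self_zero, add_zero], ← sgn_add, ← sgn_add]
    congr 2
    simp only [map_add, LinearMap.add_apply]
    linear_combination (add_self_zero (β v u)) + (add_self_zero (β v v))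
  obtain ⟨w, x, hx⟩ : ∃ w x, T w x 0 ≠ 0 := by
    by_contra! h
    have h0 : ∑ w, T w w 0 = 0 := Finset.sum_eq_zero fun w _ => h w w
    have hval : ∀ w u, (sgn (β u u) • (M u * L β w * L β u)) w 0
        = if g u = u then sgn (f u) * sgn (β u w + β w u) else 0 := by
      intro w u
      simp only [hM, Matrix.smul_mul, L_mul_L, smul_smul, Matrix.smul_apply, L_apply_zero,
        smul_eq_mul]
      by_cases hgu : g u = u
      · rw [hgu, if_pos, if_pos rfl, mul_one, ← sgn_add, ← sgn_add, ← sgn_add, ← sgn_add]
        · congr 1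
          simp only [map_add, LinearMap.add_apply]
          linear_combination (add_self_zero (β u u))
        · rw [add_comm u w, add_assoc, add_self_zero, add_zero]
      · rw [if_neg hgu, if_neg ?_, mul_zero, mul_zero]
        intro h'
        refine hgu ?_
        calc g u = (g u + w + u) + (w + u) := by rw [add_assoc (g u), add_assoc, add_self_zero, add_zero]
          _ = w + (w + u) := by rw [← h']
          _ = u := by rw [← add_assoc, add_self_zero, zero_add]
    simp only [hT, Matrix.sum_apply, hval] at h0
    rw [Finset.sum_comm, Finset.sum_eq_single (0 : V)] at h0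
    · simp [hf0, sgn_zero] at h0
    · intro u _ hu
      by_cases hgu : g u = u
      · simp only [if_pos hgu, ← Finset.mul_sum]
        rw [mul_eq_zero]
        right
        have hne : β u + β.flip u ≠ 0 := fun e => hu (hnd u fun v => by
          have := LinearMap.congr_fun e v
          simpa using this)
        simpa using sum_sgn_eq_zero (β u + β.flip u) hne
      · simp [if_neg hgu]
    · exact fun h' => absurd (Finset.mem_univ _) h'
  have hTmem : T w ∈ alg β := by
    refine Submodule.sum_mem _ fun u _ => Submodule.smul_mem _ _ ?_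
    refine mul_mem_alg β (mul_mem_alg β ?_ (L_mem β _)) (L_mem β _)
    exact Submodule.smul_mem _ _ (L_mem β _)
  set N := (T w)ᵀ * T w with hN
  have hNc : N = N 0 0 • 1 := by
    refine alg_central β hnd (mul_mem_alg β (transpose_mem_alg β hTmem) hTmem) fun v => ?_
    have h1 := congrArg transpose (hTint w v)
    rw [transpose_mul, transpose_mul, hM] at h1
    simp only [transpose_smul, L_transpose, hg, Matrix.mul_smul, Matrix.smul_mul, smul_smul] at h1
    rw [mul_comm (sgn (f v))] at h1
    rw [← smul_smul, (smul_right_injective (Matrix V V ℝ) (sgn_ne_zero (β v v))).eq_iff] at h1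
    rw [hN, ← Matrix.mul_assoc, ← h1, Matrix.smul_mul, Matrix.mul_assoc, ← Matrix.mul_smul,
      ← Matrix.smul_mul, show sgn (f v) • L β (g v) = M v from rfl, hTint, Matrix.mul_assoc]
  have hpos : 0 < N 0 0 := by
    rw [hN, Matrix.mul_apply]
    refine Finset.sum_pos' (fun i _ => ?_) ⟨x, Finset.mem_univ x, ?_⟩ <;> rw [transpose_apply]
    · exact mul_self_nonneg _
    · exact mul_self_pos.mpr hx
  refine ⟨(Real.sqrt (N 0 0))⁻¹ • T w, Submodule.smul_mem _ _ hTmem, ?_, fun u => ?_⟩
  · rw [transpose_smul, Matrix.smul_mul, Matrix.mul_smul, smul_smul, ← hN, ← mul_inv,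
      Real.mul_self_sqrt hpos.le]
    exact (congrArg ((N 0 0)⁻¹ • ·) hNc).trans
      (by simp only [smul_smul, inv_mul_cancel₀ hpos.ne', one_smul])
  · rw [Matrix.smul_mul, Matrix.mul_smul, ← hTint, hM, Matrix.smul_mul, smul_comm]

end Cfsg.Agent.Lib.RealClifford
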